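import Groth.Agent.H60.ProperAct.StabFin
import Groth.Agent.S2256
import Mathlib.AlgebraicGeometry.AlgClosed.Basic

/-!
Points with values in an algebraically closed field and finiteness of stabilisers.
-/

set_option autoImplicit false
set_option linter.style.haveILetI false

universe u

open CategoryTheory Limits MonoidalCategory CartesianMonoidalCategory MonObj AlgebraicGeometry
open Groth.Agent.H60.ProperAct

namespace Groth.Agent.H60.OrbDim

noncomputable section

variable {S : Scheme.{u}} {Ω : Type u} [Field Ω] [IsAlgClosed Ω] {T : Over S} (e : T.left ≅ Spec (CommRingCat.of Ω))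

include e in
theorem exists_section {Z : Scheme.{u}} (p : Z ⟶ T.left) [LocallyOfFiniteType p] [Nonempty Z] :
    ∃ s : T.left ⟶ Z, s ≫ p = 𝟙 T.left := by
  haveI : JacobsonSpace Z := LocallyOfFiniteType.jacobsonSpace (p ≫ e.hom)
  obtain ⟨z, -, hz⟩ := nonempty_inter_closedPoints (Z := (Set.univ : Set Z)) Set.univ_nonempty isClosed_univ.isLocallyClosed
  obtain ⟨⟨s, hs⟩, -⟩ := (pointEquivClosedPoint (p ≫ e.hom)).surjective ⟨z, hz⟩
  exact ⟨e.hom ≫ s, by rw [← cancel_mono e.hom, Category.assoc, Category.assoc, hs]; simp⟩

include e in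
/-- Points lift along surjective morphisms locally of finite type. -/
theorem exists_lift {X Y : Over S} (φ : X ⟶ Y) [Surjective φ.left] [LocallyOfFiniteType φ.left] (y : T ⟶ Y) :
    ∃ x : T ⟶ X, x ≫ φ = y := by
  haveI : LocallyOfFiniteType (pullback.snd φ.left y.left) :=
    MorphismProperty.pullback_snd (P := @LocallyOfFiniteType) _ _ inferInstance
  haveI : Surjective (pullback.snd φ.left y.left) :=
    MorphismProperty.pullback_snd (P := @Surjective) _ _ inferInstance
  haveI : Nonempty T.left := ⟨e.inv (IsLocalRing.closedPoint Ω)⟩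
  haveI : Nonempty ↥(pullback φ.left y.left) := (pullback.snd φ.left y.left).surjective.nonempty
  obtain ⟨s, hs⟩ := exists_section e (pullback.snd φ.left y.left)
  have h : (s ≫ pullback.fst φ.left y.left) ≫ φ.left = y.left := by
    rw [Category.assoc, pullback.condition, ← Category.assoc, hs, Category.id_comp]
  exact ⟨Over.homMk (s ≫ pullback.fst φ.left y.left) (by rw [← Over.w φ, ← Category.assoc, h, Over.w]),
    Over.OverMorphism.ext h⟩

variable {G X : Over S} [GrpObj G] (a : AlgGrp.Action G X)

/-- The group elements fixing a point. -/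
def fix (x : T ⟶ X) : Set (T ⟶ G) := {g | lift g x ≫ a.act = x}

/-- Fixing elements are the sections of the stabiliser. -/
def fixEquiv (x : T ⟶ X) : fix a x ≃ {s : T.left ⟶ St a x // s ≫ stP a x = 𝟙 T.left} where
  toFun g := ⟨pullback.lift (lift g.1 (𝟙 T)).left (𝟙 T.left) (by
    rw [Category.id_comp, ← Over.comp_left]
    congr 1
    have hg : lift g.1 x ≫ a.act = x := g.2
    ext1 <;> simp [GIT.psi, hg]), pullback.lift_snd _ _ _⟩
  invFun s := ⟨(Over.homMk (U := T) (V := G ⊗ T) (s.1 ≫ pullback.fst (GIT.psi a x).left (lift x (𝟙 T)).left) (by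
      rw [Category.assoc, ← Over.w (GIT.psi a x), pullback.condition_assoc, Over.w (lift x (𝟙 T)), ← Category.assoc,
        s.2, Category.id_comp])) ≫ fst G T, by
    let h : T ⟶ G ⊗ T := Over.homMk (s.1 ≫ pullback.fst (GIT.psi a x).left (lift x (𝟙 T)).left) (by
      rw [Category.assoc, ← Over.w (GIT.psi a x), pullback.condition_assoc, Over.w (lift x (𝟙 T)), ← Category.assoc,
        s.2, Category.id_comp])
    have hh : h ≫ GIT.psi a x = lift x (𝟙 T) := by
      apply Over.OverMorphism.ext
      show (s.1 ≫ pullback.fst _ _) ≫ (GIT.psi a x).left = _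
      rw [Category.assoc, pullback.condition, ← Category.assoc, s.2, Category.id_comp]
    have h1 := congrArg (· ≫ fst X T) hh
    have h2 := congrArg (· ≫ snd X T) hh
    simp [GIT.psi] at h1 h2
    show lift (h ≫ fst G T) x ≫ a.act = x
    conv_rhs => rw [← h1]
    rw [← Category.assoc]
    congr 1
    ext1
    · simp
    · simp [reassoc_of% h2]⟩
  left_inv g := Subtype.ext (by
    have : (Over.homMk (U := T) (V := G ⊗ T) ((lift g.1 (𝟙 T)).left) (Over.w _)) = lift g.1 (𝟙 T) := rfl
    show _ ≫ fst G T = g.1
    rw [← lift_fst g.1 (𝟙 T)]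
    congr 1
    apply Over.OverMorphism.ext
    exact pullback.lift_fst _ _ _)
  right_inv s := Subtype.ext (by
    refine pullback.hom_ext ?_ (by rw [pullback.lift_snd]; exact s.2.symm)
    rw [pullback.lift_fst]
    let h : T ⟶ G ⊗ T := Over.homMk (s.1 ≫ pullback.fst (GIT.psi a x).left (lift x (𝟙 T)).left) (by
      rw [Category.assoc, ← Over.w (GIT.psi a x), pullback.condition_assoc, Over.w (lift x (𝟙 T)), ← Category.assoc,
        s.2, Category.id_comp])
    have hh : h ≫ GIT.psi a x = lift x (𝟙 T) := by
      apply Over.OverMorphism.ext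
      show (s.1 ≫ pullback.fst _ _) ≫ (GIT.psi a x).left = _
      rw [Category.assoc, pullback.condition, ← Category.assoc, s.2, Category.id_comp]
    have h2 := congrArg (· ≫ snd X T) hh
    simp [GIT.psi] at h2
    show (lift (h ≫ fst G T) (𝟙 T)).left = h.left
    congr 1
    ext1 <;> simp [h2])

variable [IsSeparated X.hom] [IsAffine G.left] [LocallyOfFiniteType G.hom] [S.IsSeparated] [LocallyOfFiniteType X.hom]

include e in
/-- The stabiliser of a geometric point is finite exactly when finitely many points fix it. -/
theorem isFinite_iff_finite_fix (x : T ⟶ X) : IsFinite (stP a x) ↔ (fix a x).Finite := by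
  haveI : LocallyOfFiniteType (stP a x) := by
    haveI : LocallyOfFiniteType (snd G T).left := by rw [Over.snd_left]; infer_instance
    haveI : LocallyOfFiniteType ((GIT.psi a x).left ≫ (snd X T).left) := by
      rw [← Over.comp_left, GIT.psi, lift_snd]; infer_instance
    haveI : LocallyOfFiniteType (GIT.psi a x).left := locallyOfFiniteType_of_comp _ (snd X T).left
    exact MorphismProperty.pullback_snd (P := @LocallyOfFiniteType) _ _ inferInstance
  let E : fix a x ≃ closedPoints (St a x) := (fixEquiv a x).trans
    (({ toFun := fun s => ⟨e.inv ≫ s.1, by rw [Category.assoc, ← Category.assoc s.1, s.2]; simp⟩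
        invFun := fun p => ⟨e.hom ≫ p.1, by
          rw [← cancel_mono e.hom, Category.assoc, Category.assoc, p.2]; simp⟩
        left_inv := fun s => by simp
        right_inv := fun p => by simp } :
      {s : T.left ⟶ St a x // s ≫ stP a x = 𝟙 T.left} ≃
        {p : Spec (CommRingCat.of Ω) ⟶ St a x // p ≫ stP a x ≫ e.hom = 𝟙 _}).trans
      (pointEquivClosedPoint (stP a x ≫ e.hom)))
  constructor
  · intro h
    haveI := h
    haveI : Finite (St a x) := by
      haveI : Subsingleton T.left := e.hom.homeomorph.injective.subsingleton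
      let t₀ : T.left := e.inv (IsLocalRing.closedPoint Ω)
      refine Set.finite_univ_iff.mp (((stP a x).finite_preimage_singleton t₀).subset fun z _ => ?_)
      exact Subsingleton.elim _ _
    haveI : Finite (fix a x) := Finite.of_equiv _ E.symm
    exact Set.toFinite _
  · intro h
    haveI := h.to_subtype
    haveI : Finite (closedPoints (St a x)) := Finite.of_equiv _ E
    haveI : JacobsonSpace (St a x) := LocallyOfFiniteType.jacobsonSpace (stP a x ≫ e.hom)
    have hfin : (closedPoints (St a x)).Finite := Set.toFinite _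
    have hcl : IsClosed (closedPoints (St a x)) := by
      have : closedPoints (St a x) = ⋃ z ∈ closedPoints (St a x), {z} := (Set.biUnion_of_singleton _).symm
      rw [this]
      exact hfin.isClosed_biUnion fun z hz => hz
    have huniv : closedPoints (St a x) = Set.univ :=
      hcl.closure_eq.symm.trans closure_closedPoints
    haveI : Finite (St a x) := Set.finite_univ_iff.mp (huniv ▸ hfin)
    obtain ⟨haff, hf⟩ := S2256.result Ω (St a x) (stP a x ≫ e.hom) ‹_›
    haveI := haff
    haveI : IsFinite (stP a x ≫ e.hom) := (HasAffineProperty.iff_of_isAffine (P := @IsFinite)).mpr ⟨haff, hf⟩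
    exact (MorphismProperty.cancel_right_of_respectsIso @IsFinite _ e.hom).mp this

end

end Groth.Agent.H60.OrbDim
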