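import Groth.Agent.H60.OrbDim.Pts
import Groth.Prelude.Def_AlgGrp
import Groth.Agent.Lib.GrpSch.Basic

/-!
Orbits and stabilisers along the quotient by a normal subgroup.
-/

set_option autoImplicit false
set_option linter.style.haveILetI false

universe u

open CategoryTheory Limits MonoidalCategory CartesianMonoidalCategory MonObj AlgebraicGeometry
open Groth.Agent.Lib.GrpSch

namespace Groth.Agent.H60.OrbDim

noncomputable section

variable {S : Scheme.{u}} {H N Q X Y : Over S} [GrpObj H] [GrpObj N] [GrpObj Q]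
  (i : N ⟶ H) [IsMonHom i] (q : H ⟶ Q) [IsMonHom q] (a : AlgGrp.Action H X) (aN : AlgGrp.Action N X)
  (haN : aN.act = (i ▷ X) ≫ a.act) (π : X ⟶ Y) (hπ : GIT.IsGeomQuot aN π)
  (aQ : AlgGrp.Action Q Y) (hequiv : (q ⊗ₘ π) ≫ aQ.act = a.act ≫ π) {T : Over S} (x : T ⟶ X)

include hequiv in
theorem psi_comm : GIT.psi a x ≫ (π ▷ T) = (q ▷ T) ≫ GIT.psi aQ (x ≫ π) := by
  ext1
  · simp only [GIT.psi, Category.assoc, whiskerRight_fst, lift_fst_assoc, lift_fst]
    rw [← hequiv, tensorHom_def, Category.assoc]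
    simp [← whisker_exchange_assoc]
  · simp [GIT.psi]

include hπ in
theorem isQuotientMap_whisker : Topology.IsQuotientMap (π ▷ T).left := by
  exact hπ.subm _ _ _ (isPullback_whiskerRight π T)

include hπ haN in
/-- An orbit is saturated for the quotient by the subgroup. -/
theorem saturated_orbit :
    (π ▷ T).left ⁻¹' ((π ▷ T).left '' Set.range (GIT.psi a x).left) = Set.range (GIT.psi a x).left := by
  refine Set.Subset.antisymm ?_ (Set.subset_preimage_image _ _)
  rintro z ⟨_, ⟨w, rfl⟩, hw⟩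
  -- a point over the pair
  let C := pullback (π ▷ T).left ((GIT.psi a x).left ≫ (π ▷ T).left)
  obtain ⟨c, hc₁, hc₂⟩ := Scheme.Pullback.exists_preimage_pullback (f := (π ▷ T).left)
    (g := (GIT.psi a x).left ≫ (π ▷ T).left) z w (by rw [Scheme.Hom.comp_apply]; exact hw.symm)
  let C' : Over S := Over.mk (pullback.fst (π ▷ T).left ((GIT.psi a x).left ≫ (π ▷ T).left) ≫ (X ⊗ T).hom)
  let c₁ : C' ⟶ X ⊗ T := Over.homMk (pullback.fst _ _) rfl
  let c₂ : C' ⟶ H ⊗ T := Over.homMk (pullback.snd (π ▷ T).left ((GIT.psi a x).left ≫ (π ▷ T).left)) (by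
    show pullback.snd _ _ ≫ (H ⊗ T).hom = pullback.fst _ _ ≫ (X ⊗ T).hom
    rw [← Over.w (GIT.psi a x ≫ π ▷ T), ← Over.w (π ▷ T), pullback.condition_assoc, Over.comp_left, Category.assoc])
  have hcond : c₁ ≫ (π ▷ T) = c₂ ≫ GIT.psi a x ≫ (π ▷ T) := Over.OverMorphism.ext pullback.condition
  have hY : c₁ ≫ fst X T ≫ π = (c₂ ≫ GIT.psi a x ≫ fst X T) ≫ π := by
    simpa using congrArg (· ≫ fst Y T) hcond
  have hT : c₁ ≫ snd X T = c₂ ≫ snd H T := by
    simpa [GIT.psi] using congrArg (· ≫ snd Y T) hcond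
  let m : C'.left ⟶ pullback π.left π.left := pullback.lift (c₁ ≫ fst X T).left (c₂ ≫ GIT.psi a x ≫ fst X T).left (by
    rw [← Over.comp_left, ← Over.comp_left, Category.assoc, hY])
  obtain ⟨v, hv⟩ := hπ.orbit (m c)
  obtain ⟨r, -, hr⟩ := Scheme.Pullback.exists_preimage_pullback (f := GIT.PsiY aN π hπ.inv) (g := m) v c hv
  let R : Over S := Over.mk (pullback.snd (GIT.PsiY aN π hπ.inv) m ≫ C'.hom)
  let r₂ : R ⟶ C' := Over.homMk (pullback.snd (GIT.PsiY aN π hπ.inv) m) rfl
  have e1 : pullback.fst (GIT.PsiY aN π hπ.inv) m ≫ aN.act.left = r₂.left ≫ (c₁ ≫ fst X T).left := by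
    have := congrArg (· ≫ pullback.fst π.left π.left) (pullback.condition (f := GIT.PsiY aN π hπ.inv) (g := m))
    rw [Category.assoc, Category.assoc, show GIT.PsiY aN π hπ.inv ≫ pullback.fst π.left π.left = aN.act.left from
      pullback.lift_fst _ _ _, show m ≫ pullback.fst π.left π.left = (c₁ ≫ fst X T).left from
      pullback.lift_fst _ _ _] at this
    exact this
  let r₁ : R ⟶ N ⊗ X := Over.homMk (pullback.fst (GIT.PsiY aN π hπ.inv) m) (by
    show pullback.fst _ m ≫ (N ⊗ X).hom = r₂.left ≫ C'.hom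
    rw [← Over.w aN.act, ← Category.assoc, e1, Category.assoc, Over.w (c₁ ≫ fst X T)])
  have f1 : r₁ ≫ aN.act = r₂ ≫ c₁ ≫ fst X T := Over.OverMorphism.ext e1
  have f2 : r₁ ≫ snd N X = r₂ ≫ c₂ ≫ GIT.psi a x ≫ fst X T := by
    apply Over.OverMorphism.ext
    have := congrArg (· ≫ pullback.snd π.left π.left) (pullback.condition (f := GIT.PsiY aN π hπ.inv) (g := m))
    rw [Category.assoc, Category.assoc, show GIT.PsiY aN π hπ.inv ≫ pullback.snd π.left π.left = (snd N X).left from
      pullback.lift_snd _ _ _, show m ≫ pullback.snd π.left π.left = (c₂ ≫ GIT.psi a x ≫ fst X T).left from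
      pullback.lift_snd _ _ _] at this
    exact this
  let mR : R ⟶ H ⊗ T := lift ((r₁ ≫ fst N X ≫ i) * (r₂ ≫ c₂ ≫ fst H T)) (r₂ ≫ c₂ ≫ snd H T)
  have hmR : mR ≫ GIT.psi a x = r₂ ≫ c₁ := by
    ext1
    · rw [Category.assoc, Category.assoc, ← f1, haN]
      simp only [GIT.psi, mR, lift_fst, ← Category.assoc, lift_whiskerLeft]
      rw [act_mul]
      simp only [Category.assoc] at f2 ⊢
      have f2' : r₁ ≫ snd N X = lift (r₂ ≫ c₂ ≫ fst H T) (r₂ ≫ c₂ ≫ snd H T ≫ x) ≫ a.act := by
        rw [f2]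
        simp only [GIT.psi, lift_fst, ← Category.assoc]
        congr 1
        ext1 <;> simp
      rw [← f2', ← Category.assoc r₁ (i ▷ X)]
      congr 1
      ext1 <;> simp
    · simp [GIT.psi, mR, hT]
  refine ⟨mR.left r, ?_⟩
  rw [← Scheme.Hom.comp_apply, ← Over.comp_left, hmR, Over.comp_left, Scheme.Hom.comp_apply, ← hc₁]
  exact congrArg _ hr

include hequiv in
theorem image_orbit [Surjective q.left] :
    (π ▷ T).left '' Set.range (GIT.psi a x).left = Set.range (GIT.psi aQ (x ≫ π)).left := by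
  haveI : Surjective (q ▷ T).left :=
    MorphismProperty.of_isPullback (P := @Surjective) (isPullback_whiskerRight q T).flip inferInstance
  rw [← Set.range_comp, ← TopCat.coe_comp, ← Scheme.Hom.comp_base, ← Over.comp_left, psi_comm q a π aQ hequiv,
    Over.comp_left, Scheme.Hom.comp_base, TopCat.coe_comp, (q ▷ T).left.surjective.range_comp]

include haN hπ hequiv in
theorem isClosed_orbit_iff [Surjective q.left] :
    IsClosed (Set.range (GIT.psi aQ (x ≫ π)).left) ↔ IsClosed (Set.range (GIT.psi a x).left) := by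
  rw [← image_orbit q a π aQ hequiv x, ← (isQuotientMap_whisker aN π hπ).isClosed_preimage,
    saturated_orbit i a aN haN π hπ x]

variable {Ω : Type u} [Field Ω] [IsAlgClosed Ω] (e : T.left ≅ Spec (CommRingCat.of Ω))
  [LocallyOfFiniteType q.left] [Surjective q.left] [LocallyOfFiniteType aN.act.left]
  [LocallyOfFiniteType (GIT.PsiY aN π hπ.inv)]

include e haN hπ hequiv in
/-- Finiteness of stabilisers along the quotient. -/
theorem finite_fix_iff (hker : AlgGrp.IsKernel i q) (hN : (fix aN x).Finite) :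
    (fix aQ (x ≫ π)).Finite ↔ (fix a x).Finite := by
  have hmap : ∀ g : fix a x, g.1 ≫ q ∈ fix aQ (x ≫ π) := fun g => by
    have hg : lift g.1 x ≫ a.act = x := g.2
    show lift (g.1 ≫ q) (x ≫ π) ≫ aQ.act = x ≫ π
    rw [← lift_map g.1 x q π, Category.assoc, hequiv, ← Category.assoc, hg]
  have hiq : i ≫ q = 1 := by
    rw [hker.w, Hom.one_def]
  constructor
  · intro hQ
    refine Set.Finite.of_finite_fibers (fun g => g ≫ q) (hQ.subset (by rintro _ ⟨g, hg, rfl⟩; exact hmap ⟨g, hg⟩)) ?_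
    rintro s ⟨g₀, hg₀, rfl⟩
    refine (hN.image fun n => g₀ * (n ≫ i)).subset ?_
    rintro g ⟨hg, hgs⟩
    have hgs' : g ≫ q = g₀ ≫ q := hgs
    have hk : (g₀⁻¹ * g) ≫ q = toUnit T ≫ η[Q] := by
      rw [MonObj.mul_comp, GrpObj.inv_comp, hgs', inv_mul_cancel, Hom.one_def]
    obtain ⟨n, hn₁, -⟩ := hker.exists_lift (g₀⁻¹ * g) (toUnit T) hk
    refine ⟨n, ?_, by show g₀ * (n ≫ i) = g; rw [hn₁, mul_inv_cancel_left]⟩
    show lift n x ≫ aN.act = x
    have hg₀' : lift g₀ x ≫ a.act = x := hg₀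
    have hg' : lift g x ≫ a.act = x := hg
    rw [haN, lift_whiskerRight_assoc, hn₁, act_mul, hg']
    conv_lhs => rw [← hg₀', ← act_mul, inv_mul_cancel, act_one]
  · intro hH
    refine (hH.image fun g => g ≫ q).subset fun s hs => ?_
    obtain ⟨g, rfl⟩ := exists_lift e q s
    have hs' : lift (g ≫ q) (x ≫ π) ≫ aQ.act = x ≫ π := hs
    rw [← lift_map g x q π, Category.assoc, hequiv, ← Category.assoc] at hs'
    -- move back by an element of the subgroup
    let pr : Over S := Over.mk (pullback.fst π.left π.left ≫ X.hom)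
    let Ψ : N ⊗ X ⟶ pr := Over.homMk (GIT.PsiY aN π hπ.inv) (by
      show GIT.PsiY aN π hπ.inv ≫ pullback.fst π.left π.left ≫ X.hom = _
      rw [show GIT.PsiY aN π hπ.inv ≫ pullback.fst π.left π.left ≫ X.hom = aN.act.left ≫ X.hom from
        pullback.lift_fst_assoc _ _ _ _, Over.w])
    haveI : Surjective Ψ.left := ⟨hπ.orbit⟩
    haveI : LocallyOfFiniteType Ψ.left := ‹LocallyOfFiniteType (GIT.PsiY aN π hπ.inv)›
    let y : T ⟶ pr := Over.homMk (pullback.lift x.left (lift g x ≫ a.act).left (by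
      rw [← Over.comp_left, ← Over.comp_left, hs'])) (by
      show pullback.lift _ _ _ ≫ pullback.fst π.left π.left ≫ X.hom = _
      rw [pullback.lift_fst_assoc, Over.w])
    obtain ⟨w, hw⟩ := exists_lift e Ψ y
    have w1 : w ≫ aN.act = x := by
      apply Over.OverMorphism.ext
      have := congrArg (fun m => Over.Hom.left m ≫ pullback.fst π.left π.left) hw
      rw [Over.comp_left, Category.assoc, show Ψ.left ≫ pullback.fst π.left π.left = aN.act.left from
        pullback.lift_fst _ _ _, show y.left ≫ pullback.fst π.left π.left = x.left from pullback.lift_fst _ _ _] at this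
      exact this
    have w2 : w ≫ snd N X = lift g x ≫ a.act := by
      apply Over.OverMorphism.ext
      have := congrArg (fun m => Over.Hom.left m ≫ pullback.snd π.left π.left) hw
      rw [Over.comp_left, Category.assoc, show Ψ.left ≫ pullback.snd π.left π.left = (snd N X).left from
        pullback.lift_snd _ _ _, show y.left ≫ pullback.snd π.left π.left = (lift g x ≫ a.act).left from
        pullback.lift_snd _ _ _] at this
      exact this
    refine ⟨((w ≫ fst N X) ≫ i) * g, ?_, ?_⟩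
    · show lift (((w ≫ fst N X) ≫ i) * g) x ≫ a.act = x
      rw [act_mul, ← w2]
      conv_rhs => rw [← w1, haN]
      rw [← Category.assoc w]
      congr 1
      ext1 <;> simp
    · show (((w ≫ fst N X) ≫ i) * g) ≫ q = g ≫ q
      rw [MonObj.mul_comp, Category.assoc (w ≫ fst N X), hiq, MonObj.comp_one, _root_.one_mul]

end

end Groth.Agent.H60.OrbDim
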