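import Groth.Agent.H60.OrbDim.Sub
import Groth.Agent.H60.FreeAct.Main
import Groth.Agent.S5329
import Groth.Agent.S0402
import Groth.Agent.Lib.JacCrit.OverField
import Groth.Agent.H60.LinB.Stable

/-!
Regularity of points of an orbit space and closedness of their orbits.
-/

set_option autoImplicit false
set_option linter.style.haveILetI false

universe u

open CategoryTheory Limits MonoidalCategory CartesianMonoidalCategory MonObj AlgebraicGeometry
open Groth.Agent.H60.ProperAct Groth.Agent.H60.GlueQ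

namespace Groth.Agent.H60.OrbDim

noncomputable section

variable {k : Type u} [Field k] {G X Y : Over (Spec (CommRingCat.of k))} [GrpObj G] (a : AlgGrp.Action G X)
  [LocallyOfFiniteType G.hom] [QuasiCompact G.hom] [LocallyOfFiniteType X.hom] [QuasiCompact X.hom]

theorem le_of_lt_succ {d : ℕ} (D : WithBot ℕ∞) (h : D < ((d + 1 : ℕ) : WithBot ℕ∞)) : D ≤ (d : WithBot ℕ∞) := by
  revert h
  induction D using WithBot.recBotCoe with
  | bot => exact fun _ => bot_le
  | coe m =>
    intro h
    induction m using WithTop.recTopCoe with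
    | top => exact absurd h (not_lt.mpr (WithBot.coe_le_coe.mpr le_top))
    | coe m =>
      have h' : (m : ℕ∞) < ((d + 1 : ℕ) : ℕ∞) := WithBot.coe_lt_coe.mp h
      exact WithBot.coe_le_coe.mpr (ENat.coe_le_coe.mpr (Nat.lt_succ_iff.mp (ENat.coe_lt_coe.mp h')))

/-- The dimension of the stabilisers is upper semicontinuous. -/
theorem isOpen_stab_le (d : ℕ) :
    IsOpen {x : X.left | topologicalKrullDim ↥((stP a (𝟙 X)).fiber x) ≤ (d : WithBot ℕ∞)} := by
  letI : GrpObj (Over.mk (stP a (𝟙 X))) := FreeAct.stabGrpObj a (𝟙 X)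
  haveI : LocallyOfFiniteType (Over.mk (stP a (𝟙 X))).hom := FreeAct.lft_stP a
  have h := (S5329.result X.left (Over.mk (stP a (𝟙 X)))).1
  have key : {x : X.left | topologicalKrullDim ↥((stP a (𝟙 X)).fiber x) ≤ (d : WithBot ℕ∞)} =
      {x : X.left | topologicalKrullDim ↥((Over.mk (stP a (𝟙 X))).hom.base ⁻¹' {x}) < ((d + 1 : ℕ) : WithBot ℕ∞)} := by
    ext x
    rw [Set.mem_setOf_eq, Set.mem_setOf_eq, ((stP a (𝟙 X)).fiberHomeo x).isHomeomorph.topologicalKrullDim_eq]
    constructor
    · intro hle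
      exact lt_of_le_of_lt hle (by exact_mod_cast Nat.lt_succ_self d)
    · exact le_of_lt_succ _
  rw [key]
  exact h.isOpen_preimage _

variable [LocallyOfFiniteType Y.hom] [IsSeparated Y.hom]

/-- In an orbit space the stabiliser dimension is locally constant. -/
theorem eventually_const (hconn : ConnectedSpace G.left) (φ : X ⟶ Y) (h : GIT.IsGeomQuot a φ) (x : X.left) :
    ∃ W : X.left.Opens, x ∈ W ∧ ∀ y ∈ W, topologicalKrullDim ↥((stP a (𝟙 X)).fiber y) =
      topologicalKrullDim ↥((stP a (𝟙 X)).fiber x) := by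
  haveI : LocallyOfFiniteType φ.left := by
    haveI : LocallyOfFiniteType (φ.left ≫ Y.hom) := by rw [Over.w]; infer_instance
    exact locallyOfFiniteType_of_comp φ.left Y.hom
  have hfd : ∀ y : X.left, FlatMor.fibreDimAt φ.left y = topologicalKrullDim ↥(φ.left.fiber (φ.left y)) := by
    intro y
    obtain ⟨hirr, -⟩ := main a hconn φ h.inv h.orbit y
    haveI : IrreducibleSpace ↥(φ.left ⁻¹' {φ.left y}) := Subtype.irreducibleSpace hirr
    haveI : IrreducibleSpace ↥(φ.left.fiber (φ.left y)) :=
      Groth.Agent.Lib.GeomConn.Geometric.irreducibleSpace_of_surjective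
        (φ.left.fiberHomeo (φ.left y)).symm.continuous (φ.left.fiberHomeo (φ.left y)).symm.surjective
    haveI : LocallyOfFiniteType (X := φ.left.fiber (φ.left y))
        (Y := Spec (CommRingCat.of (Y.left.residueField (φ.left y)))) (φ.left.fiberToSpecResidueField (φ.left y)) :=
      inferInstanceAs (LocallyOfFiniteType (pullback.snd φ.left (Y.left.fromSpecResidueField (φ.left y))))
    exact Groth.Agent.Lib.JacCrit.OverField.localDim_eq_of_irreducible
      (K := Y.left.residueField (φ.left y)) (φ.left.fiberToSpecResidueField (φ.left y)) _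
  obtain ⟨-, g, e, d, hg, he, hd, hsum⟩ := main a hconn φ h.inv h.orbit x
  let W : X.left.Opens := ⟨_, (isOpen_stab_le a d).inter (S0402.result φ.left e)⟩
  refine ⟨W, ⟨hd.le, ((hfd x).trans he).le⟩, fun y hy => ?_⟩
  obtain ⟨-, g', e', d', hg', he', hd', hsum'⟩ := main a hconn φ h.inv h.orbit y
  have hgg : g = g' := by
    have : ((g : ℕ) : WithBot ℕ∞) = ((g' : ℕ) : WithBot ℕ∞) := hg.symm.trans hg'
    exact_mod_cast this
  have h1 : d' ≤ d := by
    have : ((d' : ℕ) : WithBot ℕ∞) ≤ ((d : ℕ) : WithBot ℕ∞) := hd' ▸ hy.1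
    exact_mod_cast this
  have h2 : e' ≤ e := by
    have : ((e' : ℕ) : WithBot ℕ∞) ≤ ((e : ℕ) : WithBot ℕ∞) := by
      have h3 : FlatMor.fibreDimAt φ.left y ≤ ((e : ℕ) : WithBot ℕ∞) := hy.2
      rwa [hfd, he'] at h3
    exact_mod_cast this
  rw [hd, hd']
  congr 1
  omega

omit [LocallyOfFiniteType G.hom] [QuasiCompact G.hom] [LocallyOfFiniteType X.hom] [QuasiCompact X.hom]
  [LocallyOfFiniteType Y.hom] [IsSeparated Y.hom] in
/-- The orbit map onto a geometric fibre. -/
theorem surjective_orbit_fibre {T : Over (Spec (CommRingCat.of k))} (φ : X ⟶ Y) (h : GIT.IsGeomQuot a φ) (f : T ⟶ X)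
    (z : ↥(pullback φ.left (f ≫ φ).left)) :
    ∃ q : (G ⊗ T).left,
      ∀ (W : Scheme.{u}) (p : pullback φ.left (f ≫ φ).left ⟶ W) (r : (G ⊗ T).left ⟶ W),
        (∀ gm : (G ⊗ T).left ⟶ pullback φ.left (f ≫ φ).left,
          gm ≫ pullback.fst _ _ = ((G ◁ f) ≫ a.act).left → gm ≫ pullback.snd _ _ = (snd G T).left → gm ≫ p = r) →
          r q = p z := by
  have hw : ((G ◁ f) ≫ a.act).left ≫ φ.left = (snd G T).left ≫ (f ≫ φ).left := by
    rw [← Over.comp_left, ← Over.comp_left, Category.assoc, h.inv, whiskerLeft_snd_assoc]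
  let gm : (G ⊗ T).left ⟶ pullback φ.left (f ≫ φ).left := pullback.lift ((G ◁ f) ≫ a.act).left (snd G T).left hw
  let j : pullback φ.left (f ≫ φ).left ⟶ pullback φ.left φ.left :=
    pullback.map φ.left (f ≫ φ).left φ.left φ.left (𝟙 _) f.left (𝟙 _) (by simp) (by simp)
  have hjp : IsPullback j (pullback.snd φ.left (f ≫ φ).left) (pullback.snd φ.left φ.left) f.left := by
    refine IsPullback.of_right (h₁₂ := pullback.fst φ.left φ.left) ?_ (pullback.lift_snd _ _ _)
      (IsPullback.of_hasPullback φ.left φ.left)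
    rw [show j ≫ pullback.fst φ.left φ.left = pullback.fst φ.left (f ≫ φ).left from
      (pullback.lift_fst _ _ _).trans (Category.comp_id _), ← Over.comp_left]
    exact IsPullback.of_hasPullback φ.left (f ≫ φ).left
  have hj : IsPullback (G ◁ f).left gm (GIT.PsiY a φ h.inv) j := by
    refine IsPullback.of_bot ?_ ?_ hjp
    · rw [show gm ≫ pullback.snd φ.left (f ≫ φ).left = (snd G T).left from pullback.lift_snd _ _ _,
        show GIT.PsiY a φ h.inv ≫ pullback.snd φ.left φ.left = (snd G X).left from pullback.lift_snd _ _ _]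
      exact Groth.Agent.Lib.GrpSch.isPullback_whiskerLeft G f
    · refine pullback.hom_ext ?_ ?_
      · simp only [Category.assoc, GIT.PsiY, gm, j, pullback.lift_fst, pullback.lift_fst_assoc, Category.comp_id]
        rw [← Over.comp_left]
      · simp only [Category.assoc, GIT.PsiY, gm, j, pullback.lift_snd, pullback.lift_snd_assoc]
        rw [← Over.comp_left, ← Over.comp_left, whiskerLeft_snd]
  haveI : Surjective (GIT.PsiY a φ h.inv) := ⟨h.orbit⟩
  haveI : Surjective gm := MorphismProperty.of_isPullback (P := @Surjective) hj inferInstance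
  obtain ⟨q, hq⟩ := gm.surjective z
  refine ⟨q, fun W p r hr => ?_⟩
  rw [← hq, ← Scheme.Hom.comp_apply, hr gm (pullback.lift_fst _ _ _) (pullback.lift_snd _ _ _)]

/-- An orbit lying over an open carrying an orbit space is closed in the ambient quotient datum. -/
theorem isClosed_orbit {U Us : X.left.Opens} (hle : Us ≤ U) (φ : sub U ⟶ Y) (Yt : Y.left.Opens)
    (φs : sub Us ⟶ sub Yt) (hcomm : φs.left ≫ Yt.ι = X.left.homOfLE hle ≫ φ.left)
    (hpre : φ.left ⁻¹ᵁ Yt = U.ι ⁻¹ᵁ Us) (aU : AlgGrp.Action G (sub U)) (haU : aU.act ≫ incl U = (G ◁ incl U) ≫ a.act)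
    (hinv : GIT.IsInvariant aU φ)
    (aS : AlgGrp.Action G (sub Us)) (haS : aS.act ≫ incl Us = (G ◁ incl Us) ≫ a.act)
    (hq : GIT.IsGeomQuot aS φs) {T : Over (Spec (CommRingCat.of k))} (f : T ⟶ X)
    (hf : ∀ t, f.left t ∈ Us) :
    IsClosed ((fun p : (fst X T).left ⁻¹ᵁ U => (p : (X ⊗ T).left)) ⁻¹' Set.range (GIT.psi a f).left.base) := by
  let fs : T ⟶ sub Us := Over.homMk (IsOpenImmersion.lift Us.ι f.left (by
      rw [Scheme.Opens.range_ι]; rintro _ ⟨t, rfl⟩; exact hf t)) (by
    show IsOpenImmersion.lift _ _ _ ≫ Us.ι ≫ X.hom = _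
    rw [IsOpenImmersion.lift_fac_assoc, Over.w])
  have hfs : fs ≫ incl Us = f := Over.OverMorphism.ext (IsOpenImmersion.lift_fac _ _ _)
  let k₀ : sub Us ⟶ sub U := Over.homMk (X.left.homOfLE hle) (by
    show X.left.homOfLE hle ≫ U.ι ≫ X.hom = Us.ι ≫ X.hom
    rw [Scheme.homOfLE_ι_assoc])
  have hk₀ : k₀ ≫ incl U = incl Us := Over.OverMorphism.ext (X.left.homOfLE_ι hle)
  let f' : T ⟶ sub U := fs ≫ k₀
  have hf' : f' ≫ incl U = f := by rw [Category.assoc, hk₀, hfs]
  let P : Over (Spec (CommRingCat.of k)) := sub U ⊗ T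
  -- the closed set
  let u : P ⟶ Y ⊗ Y := lift (fst _ _ ≫ φ) (snd _ _ ≫ f' ≫ φ)
  haveI : IsClosedImmersion (lift (𝟙 Y) (𝟙 Y)).left := by
    haveI : IsClosedImmersion ((lift (𝟙 Y) (𝟙 Y)).left ≫ (snd Y Y).left) := by
      rw [← Over.comp_left, lift_snd]; exact inferInstanceAs (IsClosedImmersion (𝟙 Y.left))
    haveI : IsSeparated (snd Y Y).left := by rw [Over.snd_left]; infer_instance
    exact IsClosedImmersion.of_comp _ (snd Y Y).left
  let C : Set P.left := u.left ⁻¹' Set.range (lift (𝟙 Y) (𝟙 Y)).left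
  have hC : IsClosed C := (lift (𝟙 Y) (𝟙 Y)).left.isClosedEmbedding.isClosed_range.preimage u.left.continuous
  let ρ : P ⟶ X ⊗ T := incl U ▷ T
  haveI : IsOpenImmersion ρ.left := by
    have := MorphismProperty.of_isPullback (P := @IsOpenImmersion)
      (Groth.Agent.Lib.GrpSch.isPullback_whiskerRight (incl U) T).flip (inferInstanceAs (IsOpenImmersion (incl U).left))
    exact this
  have hρrange : Set.range ρ.left = ((fst X T).left ⁻¹ᵁ U : Set (X ⊗ T).left) := by
    have h := Groth.Agent.Lib.GrpSch.isPullback_whiskerRight (incl U) T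
    show Set.range (incl U ▷ T).left = _
    rw [← h.isoPullback_hom_fst, Scheme.Hom.comp_base, TopCat.coe_comp, Set.range_comp,
      Set.range_eq_univ.mpr h.isoPullback.hom.surjective, Set.image_univ, Scheme.Pullback.range_fst]
    rw [show Set.range (incl U).left = (U : Set X.left) from U.range_ι]
    rfl
  have hψ : GIT.psi aU f' ≫ ρ = GIT.psi a f := by
    ext1
    · simp only [GIT.psi, ρ, Category.assoc, whiskerRight_fst, lift_fst_assoc, lift_fst]
      rw [haU, ← whiskerLeft_comp_assoc, hf']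
    · simp [GIT.psi, ρ]
  have hrange : Set.range (GIT.psi aU f').left = C := by
    refine Set.Subset.antisymm ?_ ?_
    · rintro _ ⟨q, rfl⟩
      refine ⟨((snd G T) ≫ f' ≫ φ).left q, ?_⟩
      rw [← Scheme.Hom.comp_apply, ← Scheme.Hom.comp_apply, ← Over.comp_left, ← Over.comp_left]
      have e : (snd G T ≫ f' ≫ φ) ≫ lift (𝟙 Y) (𝟙 Y) = GIT.psi aU f' ≫ u := by
        ext1
        · simp [u, GIT.psi]
          rw [show aU.act ≫ φ = snd G (sub U) ≫ φ from hinv, whiskerLeft_snd_assoc]
        · simp [u, GIT.psi]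
      rw [e]
    · intro p hp
      obtain ⟨y, hy⟩ := hp
      -- a point of the fibre over `p`
      obtain ⟨z₀, hz₁, -⟩ := Scheme.Pullback.exists_preimage_pullback (f := u.left) (g := (lift (𝟙 Y) (𝟙 Y)).left) p y hy.symm
      let E := pullback u.left (lift (𝟙 Y) (𝟙 Y)).left
      let π₁ : E ⟶ P.left := pullback.fst _ _
      have hEq : π₁ ≫ (fst (sub U) T).left ≫ φ.left = π₁ ≫ (snd (sub U) T).left ≫ (f' ≫ φ).left := by
        have e1 : u ≫ fst Y Y = fst _ _ ≫ φ := lift_fst _ _
        have e2 : u ≫ snd Y Y = snd _ _ ≫ f' ≫ φ := lift_snd _ _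
        rw [← Over.comp_left, ← Over.comp_left, ← e1, ← e2, Over.comp_left, Over.comp_left, ← Category.assoc,
          ← Category.assoc π₁ u.left (snd Y Y).left, pullback.condition, Category.assoc, Category.assoc,
          ← Over.comp_left, ← Over.comp_left, lift_fst, lift_snd]
      have hmem : ∀ e : E, U.ι ((π₁ ≫ (fst (sub U) T).left) e) ∈ Us := fun e => by
        have h1 : φ.left ((π₁ ≫ (fst (sub U) T).left) e) ∈ Yt := by
          rw [← Scheme.Hom.comp_apply, Category.assoc, hEq, Scheme.Hom.comp_apply, Scheme.Hom.comp_apply]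
          show φ.left (f'.left _) ∈ Yt
          rw [← Scheme.Hom.mem_preimage, hpre]
          show U.ι (f'.left _) ∈ Us
          rw [show U.ι = (incl U).left from rfl, ← Scheme.Hom.comp_apply, ← Over.comp_left, hf']
          exact hf _
        rw [← Scheme.Hom.mem_preimage, ← hpre]
        exact h1
      let e₁ : E ⟶ (sub Us).left := IsOpenImmersion.lift Us.ι (π₁ ≫ (fst (sub U) T).left ≫ U.ι) (by
        rw [Scheme.Opens.range_ι]; rintro _ ⟨e, rfl⟩; exact hmem e)
      have he₁ : e₁ ≫ X.left.homOfLE hle = π₁ ≫ (fst (sub U) T).left := by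
        rw [← cancel_mono U.ι, Category.assoc, Scheme.homOfLE_ι, IsOpenImmersion.lift_fac, Category.assoc]
      haveI : IsOpenImmersion Yt.ι := inferInstance
      have hc : e₁ ≫ φs.left = (π₁ ≫ (snd (sub U) T).left) ≫ (fs ≫ φs).left := by
        rw [← cancel_mono Yt.ι]
        simp only [Category.assoc, Over.comp_left, hcomm]
        rw [← Category.assoc e₁, he₁, Category.assoc, hEq]
        simp [f', k₀]
      let σ : E ⟶ pullback φs.left (fs ≫ φs).left := pullback.lift e₁ (π₁ ≫ (snd (sub U) T).left) hc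
      obtain ⟨q, hq2⟩ := surjective_orbit_fibre aS φs hq fs (σ z₀)
      let back : pullback φs.left (fs ≫ φs).left ⟶ (sub U ⊗ T).left :=
        (lift (Over.homMk (U := Over.mk (pullback.snd φs.left (fs ≫ φs).left ≫ T.hom)) (V := sub U)
            (pullback.fst φs.left (fs ≫ φs).left ≫ X.left.homOfLE hle) (by
              show (pullback.fst φs.left (fs ≫ φs).left ≫ X.left.homOfLE hle) ≫ U.ι ≫ X.hom = _
              rw [Category.assoc, Scheme.homOfLE_ι_assoc]
              show pullback.fst φs.left (fs ≫ φs).left ≫ (sub Us).hom = _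
              rw [← Over.w φs, pullback.condition_assoc, Over.w]
              rfl))
          (Over.homMk (U := Over.mk (pullback.snd φs.left (fs ≫ φs).left ≫ T.hom)) (V := T)
            (pullback.snd φs.left (fs ≫ φs).left) rfl)).left
      have hb1 : back ≫ (fst (sub U) T).left = pullback.fst φs.left (fs ≫ φs).left ≫ X.left.homOfLE hle := by
        simp only [back]; rw [← Over.comp_left, lift_fst]; rfl
      have hb2 : back ≫ (snd (sub U) T).left = pullback.snd φs.left (fs ≫ φs).left := by
        simp only [back]; rw [← Over.comp_left, lift_snd]; rfl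
      have hback : σ ≫ back = π₁ := by
        have A : (σ ≫ back) ≫ (fst (sub U) T).left = π₁ ≫ (fst (sub U) T).left := by
          rw [Category.assoc, hb1, pullback.lift_fst_assoc, he₁]
        have B : (σ ≫ back) ≫ (snd (sub U) T).left = π₁ ≫ (snd (sub U) T).left := by
          rw [Category.assoc, hb2, pullback.lift_snd]
        rw [Over.fst_left] at A
        rw [Over.snd_left] at B
        exact pullback.hom_ext A B
      refine ⟨q, ?_⟩
      rw [← hz₁]
      show (GIT.psi aU f').left q = π₁ z₀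
      rw [← hback, Scheme.Hom.comp_apply]
      refine hq2 _ back _ fun gm hgm1 hgm2 => ?_
      have hact : ((G ◁ fs) ≫ aS.act) ≫ k₀ = (G ◁ f') ≫ aU.act := by
        rw [← cancel_mono (incl U), Category.assoc, Category.assoc, hk₀, haS, Category.assoc, haU]
        simp only [f', ← whiskerLeft_comp_assoc, Category.assoc, hk₀]
      have A : (gm ≫ back) ≫ (fst (sub U) T).left = (GIT.psi aU f').left ≫ (fst (sub U) T).left := by
        rw [Category.assoc, hb1, ← Category.assoc, hgm1, ← Over.comp_left (f := GIT.psi aU f'), GIT.psi, lift_fst,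
          show X.left.homOfLE hle = k₀.left from rfl, ← Over.comp_left, hact]
      have B : (gm ≫ back) ≫ (snd (sub U) T).left = (GIT.psi aU f').left ≫ (snd (sub U) T).left := by
        rw [Category.assoc, hb2, hgm2, ← Over.comp_left, GIT.psi, lift_snd]
      rw [Over.fst_left] at A
      rw [Over.snd_left] at B
      exact pullback.hom_ext A B
  have hX : ρ.left ⁻¹' Set.range (GIT.psi a f).left = C := by
    rw [← hψ, Over.comp_left, Scheme.Hom.comp_base, TopCat.coe_comp, Set.range_comp,
      ρ.left.isOpenEmbedding.injective.preimage_image, hrange]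
  -- transport to the open subset
  let V : (X ⊗ T).left.Opens := (fst X T).left ⁻¹ᵁ U
  let e : P.left → ↥V := fun p => ⟨ρ.left p, hρrange.subset (Set.mem_range_self p)⟩
  have he : Function.Surjective e := fun v => by
    obtain ⟨p, hp⟩ : (v : (X ⊗ T).left) ∈ Set.range ρ.left := hρrange.symm.subset v.2
    exact ⟨p, Subtype.ext hp⟩
  have hq' : Topology.IsQuotientMap e :=
    (Topology.IsOpenEmbedding.of_comp e V.isOpen.isOpenEmbedding_subtypeVal
      ρ.left.isOpenEmbedding).isOpenMap.isQuotientMap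
      (ρ.left.continuous.subtype_mk _) he
  rw [← hq'.isClosed_preimage]
  show IsClosed (ρ.left ⁻¹' Set.range (GIT.psi a f).left)
  rw [hX]
  exact hC

end

end Groth.Agent.H60.OrbDim
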