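import Groth.Agent.H60.OrbDim.Apply
import Groth.Prelude.Def_GLinSh

/-!
Stabiliser dimensions on invariant opens and at points with values in the residue field.
-/

set_option autoImplicit false
set_option linter.style.haveILetI false

universe u

open CategoryTheory Limits MonoidalCategory CartesianMonoidalCategory MonObj AlgebraicGeometry
open Groth.Agent.H60.ProperAct Groth.Agent.H60.GlueQ

namespace Groth.Agent.H60.OrbDim

noncomputable section

variable {k : Type u} [Field k] {G X : Over (Spec (CommRingCat.of k))} [GrpObj G] (a : AlgGrp.Action G X)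
  [LocallyOfFiniteType G.hom] [QuasiCompact G.hom] [LocallyOfFiniteType X.hom] [QuasiCompact X.hom]

/-- The stabiliser of an invariant open is the restriction of the stabiliser. -/
theorem dim_fiber_stab_sub {U : X.left.Opens} (b : AlgGrp.Action G (sub U))
    (hb : b.act ≫ incl U = (G ◁ incl U) ≫ a.act) (u : (sub U).left) :
    topologicalKrullDim ↥((stP b (𝟙 (sub U))).fiber u) =
      topologicalKrullDim ↥((stP a (𝟙 X)).fiber (U.ι u)) := by
  obtain ⟨_, _⟩ := lft_qc_stP a
  let Δ : X ⟶ X ⊗ X := lift (𝟙 X) (𝟙 X)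
  have e1 : lift (𝟙 (sub U)) (𝟙 (sub U)) ≫ (incl U ⊗ₘ incl U) = incl U ≫ Δ := by simp [Δ]
  have h2 : IsPullback (pullback.fst (GIT.psi b (𝟙 (sub U))).left (lift (𝟙 (sub U)) (𝟙 (sub U))).left ≫ (G ◁ incl U).left)
      (stP b (𝟙 (sub U))) (GIT.psi a (𝟙 X)).left ((incl U).left ≫ Δ.left) := by
    rw [← Over.comp_left (f := incl U) (g := Δ), ← e1, Over.comp_left]
    exact (IsPullback.of_hasPullback _ _).paste_horiz (isPullback_incl b hb)
  let m : St b (𝟙 (sub U)) ⟶ St a (𝟙 X) :=
    pullback.lift (pullback.fst (GIT.psi b (𝟙 (sub U))).left (lift (𝟙 (sub U)) (𝟙 (sub U))).left ≫ (G ◁ incl U).left)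
      (stP b (𝟙 (sub U)) ≫ (incl U).left) (by rw [h2.w, Category.assoc])
  have hm : IsPullback m (stP b (𝟙 (sub U))) (stP a (𝟙 X)) (incl U).left := by
    refine IsPullback.of_right ?_ (pullback.lift_snd _ _ _) (IsPullback.of_hasPullback _ _)
    rw [pullback.lift_fst]
    exact h2
  exact S9777.result _ _ _ _ hm u

/-- The stabiliser at a point with values in the residue field is the fibre of the stabiliser scheme. -/
theorem dim_stab_residueField (x : X.left) :
    topologicalKrullDim (GLinSh.stab a (Over.homMk (X.left.fromSpecResidueField x) rfl :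
        Over.mk (X.left.fromSpecResidueField x ≫ X.hom) ⟶ X)) =
      topologicalKrullDim ↥((stP a (𝟙 X)).fiber x) := by
  obtain ⟨_, _⟩ := lft_qc_stP a
  let f : Over.mk (X.left.fromSpecResidueField x ≫ X.hom) ⟶ X := Over.homMk (X.left.fromSpecResidueField x) rfl
  let t₀ : (Over.mk (X.left.fromSpecResidueField x ≫ X.hom)).left := IsLocalRing.closedPoint (X.left.residueField x)
  have h := S9777.result _ _ _ _ (isPullback_stabMap a f) t₀
  rw [show f.left t₀ = x from Scheme.fromSpecResidueField_apply _ _] at h
  rw [← h]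
  exact (((stP a f).fiberHomeo t₀).trans ((Homeomorph.setCongr
    (Set.eq_univ_of_forall fun z => Subsingleton.elim (α := PrimeSpectrum (X.left.residueField x)) _ _)).trans
      (Homeomorph.Set.univ _))).isHomeomorph.topologicalKrullDim_eq.symm

end

end Groth.Agent.H60.OrbDim
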